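import Mathlib
import Groth.Agent.H02CA.NormShLocal

/-!
# Algebras split over the fraction field of a strict henselization of a normal domain
-/

set_option autoImplicit false
set_option linter.style.haveILetI false
universe u

namespace Groth.Agent.H11NormSplit

open scoped TensorProduct

variable {A R K L E k : Type u} [CommRing A] [IsDomain A] [CommRing R] [Algebra A R]
  [Field K] [Algebra A K] [IsFractionRing A K] [Field L] [Algebra R L] [IsFractionRing R L]
  [Algebra K L] [Algebra A L] [IsScalarTower A K L] [IsScalarTower A R L]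
  [CommRing E] [Algebra A E] [Algebra K E] [IsScalarTower A K E]
  [CommRing k] [Algebra A k] {π : R →ₐ[A] k}

variable (A R K L) in
/-- The map `R ⊗ K → L`. -/
noncomputable def toL : R ⊗[A] K →ₐ[A] L :=
  Algebra.TensorProduct.lift (IsScalarTower.toAlgHom A R L) (IsScalarTower.toAlgHom A K L)
    fun _ _ => Commute.all _ _

variable (A R K E) in
/-- The map `R ⊗ K → R ⊗ E`. -/
noncomputable def toE : R ⊗[A] K →ₐ[A] R ⊗[A] E :=
  Algebra.TensorProduct.map (AlgHom.id A R) (IsScalarTower.toAlgHom A K E)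

theorem toL_tmul (r : R) (c : K) : toL A R K L (r ⊗ₜ c) = algebraMap R L r * algebraMap K L c := by
  simp [toL]

theorem algebraMap_ne_zero {a : A} (ha : a ≠ 0) : algebraMap A K a ≠ 0 :=
  (map_ne_zero_iff _ (IsFractionRing.injective A K)).2 ha

theorem exists_mul_eq_tmul_one (t : R ⊗[A] K) :
    ∃ (a : A) (r : R), a ≠ 0 ∧ t * ((1 : R) ⊗ₜ algebraMap A K a) = r ⊗ₜ 1 := by
  induction t using TensorProduct.induction_on with
  | zero => exact ⟨1, 0, one_ne_zero, by simp⟩
  | tmul r c =>
    obtain ⟨m, a, ha, rfl⟩ := IsFractionRing.div_surjective A c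
    refine ⟨a, m • r, nonZeroDivisors.ne_zero ha, ?_⟩
    rw [Algebra.TensorProduct.tmul_mul_tmul, mul_one,
      div_mul_cancel₀ _ (algebraMap_ne_zero (K := K) (nonZeroDivisors.ne_zero ha)),
      Algebra.algebraMap_eq_smul_one, TensorProduct.tmul_smul, TensorProduct.smul_tmul']
  | add x y hx hy =>
    obtain ⟨a, r, ha, hx⟩ := hx
    obtain ⟨b, s, hb, hy⟩ := hy
    refine ⟨a * b, b • r + a • s, mul_ne_zero ha hb, ?_⟩
    have key : ∀ (z : R ⊗[A] K) (c d : A) (w : R),
        z * ((1 : R) ⊗ₜ algebraMap A K c) = w ⊗ₜ 1 →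
        z * ((1 : R) ⊗ₜ algebraMap A K (c * d)) = (d • w) ⊗ₜ 1 := by
      intro z c d w h
      rw [map_mul, ← mul_one (1 : R), ← Algebra.TensorProduct.tmul_mul_tmul, ← mul_assoc, h,
        Algebra.TensorProduct.tmul_mul_tmul, mul_one, one_mul, Algebra.algebraMap_eq_smul_one,
        TensorProduct.tmul_smul, TensorProduct.smul_tmul']
    rw [add_mul, key x a b r hx, mul_comm a b, key y b a s hy, TensorProduct.add_tmul]

theorem toL_injective : Function.Injective (toL A R K L) := by
  rw [injective_iff_map_eq_zero]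
  intro t ht
  obtain ⟨a, r, ha, h⟩ := exists_mul_eq_tmul_one t
  have h0 := congrArg (toL A R K L) h
  rw [map_mul, ht, zero_mul, toL_tmul, map_one, mul_one] at h0
  have hr : r = 0 := IsFractionRing.injective R L (by rw [← h0, map_zero])
  rw [hr, TensorProduct.zero_tmul] at h
  have := congrArg (· * ((1 : R) ⊗ₜ (algebraMap A K a)⁻¹)) h
  simpa [mul_assoc, mul_inv_cancel₀ (algebraMap_ne_zero (K := K) ha),
    ← Algebra.TensorProduct.one_def] using this

variable [Module.Flat A R]

theorem incl_injective (Q : Type u) [CommRing Q] [Algebra A Q] :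
    Function.Injective (Algebra.TensorProduct.map (AlgHom.id A R) (integralClosure A Q).val) :=
  Module.Flat.lTensor_preserves_injective_linearMap (M := R) (integralClosure A Q).val.toLinearMap
    Subtype.val_injective

variable [IsDomain R] (hH : H9Hens.IsPtColim π)
include hH

/-- Over a normal domain, the fraction field of the strict henselization is `R ⊗ K`. -/
theorem toL_surjective : Function.Surjective (toL A R K L) := by
  intro l
  obtain ⟨r, s, hs, rfl⟩ := IsFractionRing.div_surjective R l
  have hs' : s ≠ 0 := nonZeroDivisors.ne_zero hs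
  obtain ⟨e, he, hex, d, hd⟩ := H02CA.exists_idem_supporting (Q := K) hH (s ⊗ₜ (1 : integralClosure A K))
  let j := (toL A R K L).comp (Algebra.TensorProduct.map (AlgHom.id A R) (integralClosure A K).val)
  have hjs : j (s ⊗ₜ 1) = algebraMap R L s := by simp [j, toL_tmul]
  have hs0 : algebraMap R L s ≠ 0 := (map_ne_zero_iff _ (IsFractionRing.injective R L)).2 hs'
  have hje : j e = 1 := by
    have := congrArg j hex
    rw [map_mul, hjs] at this
    exact mul_right_cancel₀ hs0 (this.trans (one_mul _).symm)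
  have h1 : algebraMap R L s * toL A R K L d = 1 := by
    rw [← hje, ← hjs]
    exact ((congrArg (toL A R K L) hd).trans (map_mul _ _ _)).symm
  refine ⟨r ⊗ₜ 1 * d, ?_⟩
  rw [map_mul, toL_tmul, map_one, mul_one, eq_div_iff hs0, mul_assoc,
    mul_comm (toL A R K L d), h1, mul_one]

variable [Module.Finite K E]

omit [IsDomain R] hH in
theorem tmul_smul_eq {ι : Type u} (Ψ : L ⊗[K] E ≃ₐ[L] (ι → L)) (c : K) (x : E) :
    Ψ ((1 : L) ⊗ₜ (c • x)) = algebraMap K L c • Ψ (1 ⊗ₜ x) := by
  have h : (1 : L) ⊗ₜ[K] (c • x) = algebraMap K L c • ((1 : L) ⊗ₜ[K] x) := by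
    rw [TensorProduct.tmul_smul, algebraMap_smul]
  rw [h, map_smul]

/-- `R ⊗ E` is split over `L`. -/
theorem exists_bijective_pi {ι : Type u} (Ψ : L ⊗[K] E ≃ₐ[L] (ι → L)) :
    ∃ Φ : R ⊗[A] E →ₐ[R] (ι → L), Function.Bijective Φ := by
  classical
  let jE : E →ₐ[A] (ι → L) :=
    ((Ψ.toAlgHom.restrictScalars A).comp ((Algebra.TensorProduct.includeRight : E →ₐ[K] L ⊗[K] E).restrictScalars A))
  let Φ : R ⊗[A] E →ₐ[R] (ι → L) :=
    Algebra.TensorProduct.lift (Algebra.ofId R (ι → L)) jE fun _ _ => Commute.all _ _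
  have hΦ : ∀ (r : R) (x : E), Φ (r ⊗ₜ x) = algebraMap R L r • Ψ (1 ⊗ₜ x) := fun r x => by
    ext i
    simp [Φ, jE, Algebra.smul_def]
  have hΦE : ∀ (t : R ⊗[A] K) (x : E), Φ (toE A R K E t * ((1 : R) ⊗ₜ x)) =
      toL A R K L t • Ψ (1 ⊗ₜ x) := by
    intro t x
    induction t using TensorProduct.induction_on with
    | zero => simp
    | tmul r c =>
      rw [toL_tmul, toE, Algebra.TensorProduct.map_tmul, Algebra.TensorProduct.tmul_mul_tmul, hΦ,
        AlgHom.id_apply, mul_one, IsScalarTower.coe_toAlgHom', ← Algebra.smul_def c x, tmul_smul_eq,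
        smul_smul]
    | add y z hy hz => simp only [map_add, add_mul, hy, hz, add_smul]
  refine ⟨Φ, ?_, ?_⟩
  · let b := Module.Free.chooseBasis K E
    have hrep : ∀ z : R ⊗[A] E, ∃ t : _ → R ⊗[A] K,
        z = ∑ j, toE A R K E (t j) * ((1 : R) ⊗ₜ b j) := by
      intro z
      induction z using TensorProduct.induction_on with
      | zero => exact ⟨0, by simp⟩
      | tmul r x =>
        refine ⟨fun j => r ⊗ₜ b.repr x j, ?_⟩
        conv_lhs => rw [← b.sum_repr x, TensorProduct.tmul_sum]
        simp [toE, Algebra.smul_def]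
      | add y z hy hz =>
        obtain ⟨s, rfl⟩ := hy
        obtain ⟨t, rfl⟩ := hz
        exact ⟨s + t, by simp [map_add, add_mul, Finset.sum_add_distrib]⟩
    rw [injective_iff_map_eq_zero]
    intro z hz
    obtain ⟨t, rfl⟩ := hrep z
    have hli : LinearIndependent L fun j => Ψ (1 ⊗ₜ b j) := by
      have := (Algebra.TensorProduct.basis L b).linearIndependent.map' Ψ.toLinearMap (LinearMap.ker_eq_bot.2 Ψ.injective)
      simpa [Function.comp_def] using this
    simp only [map_sum, hΦE] at hz
    have hz0 := Fintype.linearIndependent_iff.1 hli _ hz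
    refine Finset.sum_eq_zero fun j _ => ?_
    rw [toL_injective (show toL A R K L (t j) = toL A R K L 0 by rw [hz0 j, map_zero]), map_zero, zero_mul]
  · intro v
    obtain ⟨w, rfl⟩ := Ψ.surjective v
    induction w using TensorProduct.induction_on with
    | zero => exact ⟨0, by simp⟩
    | tmul l x =>
      obtain ⟨t, rfl⟩ := toL_surjective (K := K) (L := L) hH l
      refine ⟨toE A R K E t * ((1 : R) ⊗ₜ x), ?_⟩
      rw [hΦE, ← map_smul, TensorProduct.smul_tmul', smul_eq_mul, mul_one]
    | add y z hy hz =>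
      obtain ⟨a, ha⟩ := hy
      obtain ⟨b, hb⟩ := hz
      exact ⟨a + b, by rw [map_add, map_add, ha, hb]⟩

variable [IsIntegrallyClosed R] [IsReduced E]

omit [IsDomain R] hH [IsIntegrallyClosed R] [IsReduced E] [Module.Finite K E] [Module.Flat A R] in
include K in
theorem isUnit_tmul {a : A} (ha : a ≠ 0) : IsUnit ((1 : R) ⊗ₜ[A] algebraMap A E a) := by
  rw [IsScalarTower.algebraMap_apply A K E]
  exact ((algebraMap_ne_zero (K := K) ha).isUnit.map (algebraMap K E)).map
    (Algebra.TensorProduct.includeRight : E →ₐ[A] R ⊗[A] E)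

omit [IsDomain R] hH [IsIntegrallyClosed R] [IsReduced E] [Module.Flat A R] in
include K in
theorem exists_clear (t : R ⊗[A] E) : ∃ (a : A) (x : R ⊗[A] integralClosure A E), a ≠ 0 ∧
    t * ((1 : R) ⊗ₜ algebraMap A E a) =
      Algebra.TensorProduct.map (AlgHom.id A R) (integralClosure A E).val x := by
  induction t using TensorProduct.induction_on with
  | zero => exact ⟨1, 0, one_ne_zero, by simp⟩
  | tmul r x =>
    obtain ⟨⟨a, ha⟩, hax⟩ :=
      (Algebra.IsIntegral.isIntegral (R := K) x).exists_multiple_integral_of_isLocalization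
        (nonZeroDivisors A) x
    refine ⟨a, r ⊗ₜ ⟨_, hax⟩, nonZeroDivisors.ne_zero ha, ?_⟩
    rw [Algebra.TensorProduct.map_tmul, Algebra.TensorProduct.tmul_mul_tmul, mul_one, mul_comm x,
      ← Algebra.smul_def]
    rfl
  | add y z hy hz =>
    obtain ⟨a, y', ha, hy⟩ := hy
    obtain ⟨c, z', hc, hz⟩ := hz
    refine ⟨a * c, y' * ((1 : R) ⊗ₜ algebraMap A (integralClosure A E) c) +
      z' * ((1 : R) ⊗ₜ algebraMap A (integralClosure A E) a), mul_ne_zero ha hc, ?_⟩
    have e1 : ∀ q : A, Algebra.TensorProduct.map (AlgHom.id A R) (integralClosure A E).val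
        ((1 : R) ⊗ₜ algebraMap A (integralClosure A E) q) = (1 : R) ⊗ₜ algebraMap A E q :=
      fun q => rfl
    have e2 : (1 : R) ⊗ₜ[A] algebraMap A E (a * c) =
        ((1 : R) ⊗ₜ algebraMap A E a) * ((1 : R) ⊗ₜ algebraMap A E c) := by
      rw [Algebra.TensorProduct.tmul_mul_tmul, one_mul, map_mul]
    generalize hm : Algebra.TensorProduct.map (AlgHom.id A R) (integralClosure A E).val = m at e1 hy hz ⊢
    rw [map_add, map_mul m y', map_mul m z', ← hy, ← hz, e1, e1, e2]
    ring

omit [IsDomain R] hH [IsIntegrallyClosed R] [IsReduced E] [Module.Finite K E] [Module.Flat A R]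
  [IsDomain A] [IsFractionRing A K] [IsScalarTower A K E] in
theorem isIntegral_apply {ι : Type u} (Φ : R ⊗[A] E →ₐ[R] (ι → L))
    (z : R ⊗[A] integralClosure A E) :
    IsIntegral R (Φ (Algebra.TensorProduct.map (AlgHom.id A R) (integralClosure A E).val z)) := by
  induction z using TensorProduct.induction_on with
  | zero => rw [map_zero, map_zero]; exact isIntegral_zero
  | tmul r x =>
    rw [Algebra.TensorProduct.map_tmul, AlgHom.id_apply, Subalgebra.coe_val,
      show r ⊗ₜ[A] x.1 = r • ((1 : R) ⊗ₜ[A] x.1) by rw [TensorProduct.smul_tmul', smul_eq_mul, mul_one],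
      map_smul]
    exact (((show IsIntegral A x.1 from x.2).map
      ((Φ.restrictScalars A).comp Algebra.TensorProduct.includeRight)).tower_top).smul r
  | add y w hy hw => rw [map_add, map_add]; exact hy.add hw

omit [IsIntegrallyClosed R] in
include K in
theorem single_mem_range {ι : Type u} [DecidableEq ι] (Φ : R ⊗[A] E →ₐ[R] (ι → L))
    (hΦ : Function.Bijective Φ) (i : ι) :
    ∃ e : R ⊗[A] integralClosure A E,
      Φ (Algebra.TensorProduct.map (AlgHom.id A R) (integralClosure A E).val e) = Pi.single i 1 := by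
  haveI : IsArtinianRing E := isArtinian_of_tower K inferInstance
  obtain ⟨t, ht⟩ := hΦ.2 (Pi.single i 1)
  have htt : t * t = t := hΦ.1 (by rw [map_mul, ht, ← Pi.single_mul, mul_one])
  obtain ⟨a, x, ha, hx⟩ := exists_clear (K := K) t
  obtain ⟨e, -, hex, d, hd⟩ := H02CA.exists_idem_supporting (Q := E) hH x
  refine ⟨e, ?_⟩
  generalize hm : Algebra.TensorProduct.map (AlgHom.id A R) (integralClosure A E).val = m at hx hd ⊢
  have h1 : m e * t = t := (isUnit_tmul (K := K) ha).mul_right_cancel (by
    rw [mul_assoc, hx, ← map_mul, hex])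
  have h2 : m e * t = m e := by
    rw [hd, ← hx]
    linear_combination (((1 : R) ⊗ₜ algebraMap A E a) * d) * htt
  rw [← h2, h1, ht]

/-- The integral closure becomes split over the strict henselization. -/
theorem exists_algEquiv_pi {ι : Type u} [Finite ι] (Ψ : L ⊗[K] E ≃ₐ[L] (ι → L)) :
    Nonempty ((R ⊗[A] integralClosure A E) ≃ₐ[R] (ι → R)) := by
  classical
  cases nonempty_fintype ι
  obtain ⟨Φ, hΦ⟩ := exists_bijective_pi (A := A) (R := R) hH Ψ
  let inc : R ⊗[A] integralClosure A E →ₐ[R] R ⊗[A] E :=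
    Algebra.TensorProduct.map (AlgHom.id R R) (integralClosure A E).val
  have hinc : ∀ z, inc z = Algebra.TensorProduct.map (AlgHom.id A R) (integralClosure A E).val z :=
    fun _ => rfl
  let g := Φ.comp inc
  have hg : Function.Injective g := hΦ.1.comp (incl_injective (R := R) E)
  let f : (ι → R) →ₐ[R] (ι → L) := (Algebra.ofId R L).compLeft ι
  have hf : Function.Injective f := fun x y h =>
    funext fun i => IsFractionRing.injective R L (congrFun h i)
  have hf' : ∀ (c : ι → R) i, f c i = algebraMap R L (c i) := fun _ _ => rfl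
  have hrange : g.range = f.range := by
    refine le_antisymm ?_ ?_
    · rintro _ ⟨z, rfl⟩
      have hz : IsIntegral R (g z) := isIntegral_apply Φ z
      choose c hc using fun i =>
        IsIntegrallyClosed.isIntegral_iff.1 (hz.map (Pi.evalAlgHom R (fun _ : ι => L) i))
      exact ⟨c, funext hc⟩
    · rintro _ ⟨c, rfl⟩
      have : f c = ∑ i, c i • Pi.single i (1 : L) := by
        ext j
        simp [hf', Finset.sum_apply, Pi.single_apply, Algebra.smul_def]
      change f c ∈ g.range
      rw [this]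
      refine Subalgebra.sum_mem _ fun i _ => Subalgebra.smul_mem _ ?_ _
      obtain ⟨e, he⟩ := single_mem_range (A := A) (K := K) hH Φ hΦ i
      exact ⟨e, (congrArg Φ (hinc e)).trans he⟩
  exact ⟨(AlgEquiv.ofInjective g hg).trans ((Subalgebra.equivOfEq _ _ hrange).trans
    (AlgEquiv.ofInjective f hf).symm)⟩

omit [Module.Flat A R] in
/-- The integral closure is finite étale. -/
theorem finite_etale {ι : Type u} [Finite ι] (Ψ : L ⊗[K] E ≃ₐ[L] (ι → L)) [Module.FaithfullyFlat A R] :
    Module.Finite A (integralClosure A E) ∧ Algebra.Etale A (integralClosure A E) := by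
  obtain ⟨e⟩ := exists_algEquiv_pi (A := A) (R := R) (K := K) (L := L) (E := E) hH Ψ
  haveI : Module.Finite R (R ⊗[A] integralClosure A E) := Module.Finite.equiv e.symm.toLinearEquiv
  haveI : Algebra.Etale R (R ⊗[A] integralClosure A E) := Algebra.Etale.of_equiv e.symm
  exact ⟨Module.Finite.of_finite_tensorProduct_of_faithfullyFlat R,
    Algebra.Etale.of_etale_tensorProduct_of_faithfullyFlat (T := R)⟩

end Groth.Agent.H11NormSplit
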